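import Cfsg.Agent.H866.D4Wf.Row
import Cfsg.Agent.KFacts.RgdFiltTwAll
import Cfsg.Agent.H69.OutTwD4
import Cfsg.Agent.H35.ExcIdx
import Cfsg.Agent.H115.HC.TwoLin

/-!
# Borel-Tits for `³D₄(q)` with the orders of the two maximal parabolic subgroups (helper81, for S4247)
-/

set_option autoImplicit false
set_option linter.unusedSectionVars false

namespace Cfsg.Agent.H81.DP

open CoxeterSystem Cfsg.Agent.ChevalleyStructure.CoxeterGeom Cfsg.Agent.Tits.Roots Cfsg.Agent.Tits.Core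
  Cfsg.Agent.Tits.Exchange Cfsg.Agent.Nodes.Reps Cfsg.Agent.Nodes.BNOf Cfsg.Agent.Nodes.StabComb
  Cfsg.Agent.Nodes.Bruhat Cfsg.Agent.Nodes.OppDec Cfsg.Agent.Nodes.LeviDec
open Cfsg.Lie Cfsg.Agent.ChevalleyStructure
open Cfsg.Agent.Nodes.RGDTwD4
open Cfsg.Agent.H866.D4Wf.Frame (cs rgd' GG_top card_X0 card_X1)

theorem arith_aux {q i x : ℕ} (hi : 0 < i)
    (h : i * (x + 1) * ((q ^ 3 - 1) * (q - 1)) = (q ^ 2 - 1) * (q ^ 6 - 1) * (q ^ 8 + q ^ 4 + 1)) {c : ℕ}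
    (hc : c * i = q ^ 12 * (q ^ 2 - 1) * (q ^ 6 - 1) * (q ^ 8 + q ^ 4 + 1)) :
    c = q ^ 12 * ((x + 1) * ((q ^ 3 - 1) * (q - 1))) := by
  apply Nat.eq_of_mul_eq_mul_right hi
  rw [hc]
  calc q ^ 12 * (q ^ 2 - 1) * (q ^ 6 - 1) * (q ^ 8 + q ^ 4 + 1) =
      q ^ 12 * ((q ^ 2 - 1) * (q ^ 6 - 1) * (q ^ 8 + q ^ 4 + 1)) := by ring
    _ = q ^ 12 * (i * (x + 1) * ((q ^ 3 - 1) * (q - 1))) := by rw [h]
    _ = _ := by ring

theorem arith_ne {q x : ℕ} (hq : 1 < q) (hx : x = q ∨ x = q ^ 3) :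
    q ^ 12 * ((x + 1) * ((q ^ 3 - 1) * (q - 1))) ≠ q ^ 12 * (q ^ 2 - 1) * (q ^ 6 - 1) * (q ^ 8 + q ^ 4 + 1) := by
  intro h
  obtain ⟨m, rfl⟩ : ∃ m, q = m + 1 := ⟨q - 1, by omega⟩
  have hm : 0 < m := by omega
  have e1 : m + 1 - 1 = m := by omega
  have e2 : (m + 1) ^ 2 - 1 = m * (m + 2) := by apply Nat.sub_eq_of_eq_add; ring
  have e3 : (m + 1) ^ 3 - 1 = m * (m ^ 2 + 3 * m + 3) := by apply Nat.sub_eq_of_eq_add; ring
  have e6 : (m + 1) ^ 6 - 1 = m * (m ^ 2 + 3 * m + 3) * ((m + 1) ^ 3 + 1) := by apply Nat.sub_eq_of_eq_add; ring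
  rw [e1, e2, e3, e6] at h
  have hx' : x + 1 ≤ (m + 1) ^ 3 + 1 := by
    rcases hx with rfl | rfl
    · have := Nat.le_self_pow (n := 3) (by norm_num) (m + 1)
      omega
    · exact le_rfl
  have h1 : (m + 1) ^ 12 * (m * (m ^ 2 + 3 * m + 3) * m) * (x + 1) =
      (m + 1) ^ 12 * (m * (m ^ 2 + 3 * m + 3) * m) * (((m + 1) ^ 3 + 1) * ((m + 2) * ((m + 1) ^ 8 + (m + 1) ^ 4 + 1))) := by
    linear_combination h
  have h2 := Nat.eq_of_mul_eq_mul_left (by positivity) h1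
  have h3 : 1 < (m + 2) * ((m + 1) ^ 8 + (m + 1) ^ 4 + 1) := by
    have : 1 ≤ (m + 1) ^ 8 + (m + 1) ^ 4 + 1 := by omega
    nlinarith
  have h4 : 0 < (m + 1) ^ 3 + 1 := by positivity
  have h5 : (m + 1) ^ 3 + 1 < ((m + 1) ^ 3 + 1) * ((m + 2) * ((m + 1) ^ 8 + (m + 1) ^ 4 + 1)) :=
    lt_mul_of_one_lt_right h4 h3
  omega

/-- **Borel-Tits for `³D₄(q)`.** -/
theorem bt_td4 {K : Type} [Field K] [Fintype K] {q r : ℕ} [hr : Fact r.Prime] [CharP K r] (hq : IsPrimePow q)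
    (hK : Fintype.card K = q ^ 3) {V : Subgroup ↥(twistedD4 K q)} (hV : IsPGroup r ↥V) (hne : V ≠ ⊥) :
    ∃ Q : Subgroup ↥(twistedD4 K q), Q ≠ ⊤ ∧ Subgroup.normalizer (V : Set ↥(twistedD4 K q)) ≤ Q ∧
      (Nat.card ↥Q = q ^ 12 * (q ^ 6 - 1) * (q - 1) ∨ Nat.card ↥Q = q ^ 12 * (q ^ 2 - 1) * (q ^ 3 - 1)) := by
  obtain ⟨φ, hφ⟩ := D4Fixed.exists_frob hq hK
  have hfin : Finite CoxeterMatrix.G₂.Group := Cfsg.Agent.Nodes.RGDFold.finite_W (hp := Cfsg.Agent.Nodes.RGDTwD4.hp) cs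
    isCartan foldData
  have R := rgd' hK hφ r
  have hG1 : Nodes.RGDLib.G1 cs isCartan (X φ q) = ⊤ := G1_eq_top cs hK hφ
  have hG : GG cs isCartan (T K q) (X φ q) = ⊤ := KFacts.RgdFilt.GG_eq_top hG1
  have hF := KFacts.RgdFiltTwAll.filt_fold cs isCartan foldData (foldGrp hφ (D4Fixed.twisted_le_fix hK hφ)) r
  have hq1 := hq.one_lt
  obtain ⟨g, J, hJ, -, hN⟩ := KFacts.RgdFilt.borel_tits_of_filt hF hG1 hV hne
  obtain ⟨i, hi⟩ : ∃ i : Fin 2, J ⊆ {i} := by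
    by_contra hcon
    push Not at hcon
    apply hJ
    rw [Set.eq_univ_iff_forall]
    intro j
    by_contra hj
    obtain ⟨k, hk, hk'⟩ := Set.not_subset.1 (hcon (1 - j))
    apply hk'
    rw [Set.mem_singleton_iff]
    have : k ≠ j := fun h => hj (h ▸ hk)
    fin_cases j <;> fin_cases k <;> first | rfl | exact absurd rfl this
  have hPJ : PJ cs isCartan (T K q) (X φ q) J ≤ PJ cs isCartan (T K q) (X φ q) {i} :=
    Cfsg.Agent.BiChar.RankPar.PJ_mono hi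
  have hcard' := S1067.result hq hK
  -- the orders
  have hN' := H115.HC.Two.card_PJ R i
  have hT := H69.OutTwD4.card_T hq hK
  have hrq : r ∣ q := by
    obtain ⟨p, k, hp, hk, hpk⟩ := hq
    have hp' := hp.nat_prime
    have h1 : r ∣ Fintype.card K := by
      rw [← CharP.cast_eq_zero_iff K r, FiniteField.cast_card_eq_zero]
    rw [hK] at h1
    exact hr.out.dvd_of_dvd_pow h1
  have hsub : ∀ k, k ≠ 0 → ¬ r ∣ q ^ k - 1 := by
    intro k hk h3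
    have h4 : r ∣ q ^ k := dvd_pow hrq hk
    have h5 : 1 ≤ q ^ k := Nat.one_le_pow _ _ (by omega)
    have h6 := Nat.dvd_sub h4 h3
    rw [Nat.sub_sub_self h5] at h6
    exact hr.1.one_lt.ne' (Nat.dvd_one.1 h6)
  have hP : ¬ r ∣ (q ^ 2 - 1) * (q ^ 6 - 1) * (q ^ 8 + q ^ 4 + 1) := by
    rw [hr.1.dvd_mul, hr.1.dvd_mul]
    rintro ((h3 | h3) | h3)
    · exact hsub 2 (by norm_num) h3
    · exact hsub 6 (by norm_num) h3
    · have h4 : r ∣ q ^ 8 + q ^ 4 := dvd_add (dvd_pow hrq (by norm_num)) (dvd_pow hrq (by norm_num))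
      exact hr.1.one_lt.ne' (Nat.dvd_one.1 ((Nat.dvd_add_right h4).1 h3))
  obtain ⟨p, k, hp, hk, hpk⟩ := id hq
  have hpr : p = r := by
    have hp' := hp.nat_prime
    rw [← hpk] at hrq
    exact ((Nat.prime_dvd_prime_iff_eq hr.out hp').1 (hr.out.dvd_of_dvd_pow hrq)).symm
  rw [hpr] at hpk
  have h6 := H35.ExcIdx.index_eq R hG hN' (d := 1) (fun h => hr.1.one_lt.ne' (Nat.dvd_one.1 h))
    (t := (q ^ 3 - 1) * (q - 1)) (by rw [one_mul, hT])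
    (P := (q ^ 2 - 1) * (q ^ 6 - 1) * (q ^ 8 + q ^ 4 + 1)) (b := k * 12) (by
      rw [one_mul, hcard', pow_mul, hpk]
      ring) hP
  have hi0 : 0 < (PJ cs isCartan (T K q) (X φ q) {i}).index := Nat.pos_of_ne_zero Subgroup.index_ne_zero_of_finite
  have h7 := arith_aux hi0 h6 (by rw [Subgroup.card_mul_index, hcard'])
  refine ⟨cj g (PJ cs isCartan (T K q) (X φ q) {i}), ?_, hN.trans (cj_mono g hPJ), ?_⟩
  · intro h
    have h8 := congrArg (fun H : Subgroup ↥(twistedD4 K q) => Nat.card ↥H) h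
    simp only [Nodes.CardSup.card_cj, Subgroup.card_top] at h8
    rw [hcard', h7] at h8
    refine arith_ne hq1 ?_ h8
    have h01 : i = 0 ∨ i = 1 := by fin_cases i <;> simp
    rcases h01 with rfl | rfl
    · exact Or.inl (card_X0 hK hφ hq)
    · exact Or.inr (card_X1 hK hφ)
  · rw [Nodes.CardSup.card_cj, h7]
    have h01 : i = 0 ∨ i = 1 := by fin_cases i <;> simp
    obtain ⟨m, rfl⟩ : ∃ m, q = m + 1 := ⟨q - 1, by omega⟩
    rcases h01 with rfl | rfl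
    · right
      rw [card_X0 hK hφ hq]
      have e1 : m + 1 - 1 = m := by omega
      have e2 : (m + 1) ^ 2 - 1 = m * (m + 2) := by apply Nat.sub_eq_of_eq_add; ring
      rw [e1, e2]
      ring
    · left
      rw [card_X1 hK hφ]
      have e1 : m + 1 - 1 = m := by omega
      have e3 : (m + 1) ^ 3 - 1 = m * (m ^ 2 + 3 * m + 3) := by apply Nat.sub_eq_of_eq_add; ring
      have e6 : (m + 1) ^ 6 - 1 = m * (m ^ 2 + 3 * m + 3) * ((m + 1) ^ 3 + 1) := by apply Nat.sub_eq_of_eq_add; ring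
      rw [e1, e3, e6]
      ring

end Cfsg.Agent.H81.DP
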